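import Cfsg.Agent.Omega.NO3S.LightB.XL
import Cfsg.Agent.Omega.NO3S.MFive.FailOne

/-!
# LightL (E), `n = 5`: `J(O₂(D))` centralises `V` (helper904)

Case (C) of helper411 #25060 = FAIL (`TwoB.DtB.fail`, helper286) over helper337's frame `LF`:

* `W0_le_o2D` : `W_0 ≤ O₂(D)`; `cent_W0` : if no `A ≤ O₂(X_12)` offends on `W_0`, `J(O₂(D))` centralises `W_0`;
* `false_of_cent` : if every `A ∈ AA(O₂(C_G(a)))` centralises `⟨a^(C_G(p 0, p 1) T)⟩`, contradiction;
* `ee_false` : the case `EE = ∅` (helper398 #25454, helper604 #25469 (ii));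
* **`false_of_J (h : LF S P p) : MLK → Ext → J(O₂(D)) ≤ C(V) → False`** (with helper736's `FailHyp.local_off`).
-/

set_option autoImplicit false
set_option linter.unusedSectionVars false

namespace Cfsg.Agent.Omega.NO3S.LightB

open Subgroup Cfsg Cfsg.Agent.Omega.MinPar Cfsg.Agent.Omega.Frame Cfsg.Agent.Omega.FrameNOFF
open Cfsg.Agent.ZN (o2 jj zc zl)
open Cfsg.Agent.ZN.ChoiceSit (Syl)
open Cfsg.Agent.ZN.ChoiceBase (AA cj cj_mono cj_cj_inv cj_inv_cj cj_mem_AA mem_normalizer_iff_cj cj_centralizer cj_inf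
  jj_cj isPGroup_cj cj_eq_of_mem_normalizer jj_eq le_jj jj_le AA_nonempty)
open Cfsg.Agent.ZN.ChoiceSit (o2_cj)
open Cfsg.Agent.Omega.NO3S Cfsg.Agent.Omega.NTwo Cfsg.Agent.Omega.NO3S.Sym.Exit Cfsg.Agent.Omega.NO3S.Sym.Light
open Cfsg.Agent.Omega.NO3S.MFive.Inst (zv TT)
open Cfsg.Agent.MinSimple.MinParabolic (IsMinPar le_of_forall)
open Cfsg.Agent.MinSimple.VModule
open Cfsg.Agent.Omega.LFive (LF dd cn ca ll)
open Cfsg.Agent.Omega.EK3.Rank
open Cfsg.Agent.Omega.NO3S.EThree (Offd)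

universe u

variable {G : Type u} [Group G] [Finite G] {S : Sylow 2 G} {P : Subgroup G} {p : Fin 5 → G}

section light

variable (h : FiveL S P p)
include h

/-- `U_z = ⟨V^C_G(p 4)⟩` -/
theorem U_comm : DD (zl (S : Subgroup G) P) (p 4) ≤ centralizer (DD (zl (S : Subgroup G) P) (p 4) : Set G) :=
  NoFF.Basic.comm_mono h.toHyp.W_comm h.toFive.W_le_CC h.toFive.W_le_CC

theorem U_sq : ∀ v ∈ DD (zl (S : Subgroup G) P) (p 4), v ^ 2 = 1 := fun v hv =>
  h.toHyp.geo.W_sq v (h.toFive.W_le_CC hv)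

theorem U_two : IsPGroup 2 (DD (zl (S : Subgroup G) P) (p 4)) := fun x =>
  ⟨1, Subtype.ext (by rw [pow_one]; exact U_sq h x x.2)⟩

theorem dd_le : centralizer ({nn p} : Set G) ⊓ centralizer ({aa p} : Set G) ≤ centralizer ({p 4} : Set G) := by
  rintro g ⟨h1, h2⟩
  rw [mem_cent, ← h.std.na, cm, mem_cent.1 h1, mem_cent.1 h2]

theorem U_le_o2D : DD (zl (S : Subgroup G) P) (p 4) ≤
    o2 (centralizer ({nn p} : Set G) ⊓ centralizer ({aa p} : Set G)) := by
  refine Cfsg.Agent.ZN.ChoiceSit.le_o2 (U_two h) (le_inf ?_ ?_) ((dd_le h).trans cent_le_normalizer_DD)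
  · intro x hx
    rw [mem_centralizer_singleton_iff]
    exact (mem_centralizer_iff.1 (U_comm h hx) _ (le_DD h.n_mem)).symm
  · intro x hx
    rw [mem_centralizer_singleton_iff]
    exact (mem_centralizer_iff.1 (U_comm h hx) _ (le_DD h.a_mem)).symm

theorem W0_le : MFive.W (normalizer (zl (S : Subgroup G) P : Set G)) (zv p) 0 ≤ DD (zl (S : Subgroup G) P) (p 4) := by
  refine MFive.nc_le ?_ ?_
  · rw [MFive.Inst.V_zv h]
    exact le_DD
  · exact (MFive.M_le _ _ 0).trans cent_le_normalizer_DD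

theorem W0_el : IsElementaryAbelian 2 (MFive.W (normalizer (zl (S : Subgroup G) P : Set G)) (zv p) 0) :=
  ⟨⟨⟨fun x y => Subtype.ext (mem_centralizer_iff.1 (U_comm h (W0_le h y.2)) x (W0_le h x.2))⟩⟩,
    fun x hx => U_sq h x (W0_le h hx)⟩

theorem X12_le : MFive.X (zv p) 1 2 ≤ centralizer ({nn p} : Set G) ⊓ centralizer ({aa p} : Set G) := by
  intro x hx
  obtain ⟨h4, h2, h3⟩ := MFive.Inst.mem_X12.1 hx
  refine ⟨mem_cent.2 ?_, mem_cent.2 ?_⟩
  · rw [MFive.Inst.n_eq h, cm, cm, comm_iff.2 h2, comm_iff.2 h3, comm_iff.2 h4]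
  · rw [aa, cm, comm_iff.2 h2, comm_iff.2 h3]

/-- `O₂(D) ∩ C(V) ≤ O₂(X_12)` -/
theorem le_o2X {A : Subgroup G} (hA : A ≤ o2 (centralizer ({nn p} : Set G) ⊓ centralizer ({aa p} : Set G)))
    (hAV : A ≤ centralizer (zl (S : Subgroup G) P : Set G)) : A ≤ o2 (MFive.X (zv p) 1 2) := by
  refine le_trans (le_inf hA ?_) (NO3S.EMany.Low.InpG.o2_le_o2_of_le (X12_le h))
  intro x hx
  have h1 : ∀ i, x * p i = p i * x := fun i => (mem_centralizer_iff.1 (hAV hx) _ (h.p_mem i)).symm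
  exact MFive.Inst.mem_X12.2 ⟨h1 4, h1 2, h1 3⟩

/-- no offender of `O₂(X_12)` on `W_0`: `J(O₂(D))` centralises `W_0` -/
theorem cent_W0 (J : jj (o2 (centralizer ({nn p} : Set G) ⊓ centralizer ({aa p} : Set G))) ≤
      centralizer (zl (S : Subgroup G) P : Set G))
    (hne : ¬ ∃ A ≤ o2 (MFive.X (zv p) 1 2), IsElementaryAbelian 2 A ∧
      Offd (MFive.W (normalizer (zl (S : Subgroup G) P : Set G)) (zv p) 0) A) :
    jj (o2 (centralizer ({nn p} : Set G) ⊓ centralizer ({aa p} : Set G))) ≤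
      centralizer (MFive.W (normalizer (zl (S : Subgroup G) P : Set G)) (zv p) 0 : Set G) := by
  rw [jj_eq]
  refine sSup_le fun A hA => ?_
  by_contra hmv
  have hAX := le_o2X h hA.2.1 ((le_jj hA).trans J)
  refine hne ⟨A, hAX, hA.1, offd_of_mem (W0_el h) ((W0_le h).trans (U_le_o2D h)) hA ?_ le_rfl hmv⟩
  refine hAX.trans ((Cfsg.Agent.ZN.ChoiceSit.o2_le _).trans ?_)
  exact (MFive.X_le_M (L := normalizer (zl (S : Subgroup G) P : Set G)) (z := zv p) (a := 0) (k := 1) (l := 2)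
    (by decide) (by decide) (by decide)).trans (MFive.M_norm_W 0)

end light

/-- If every `A ∈ AA(O₂(C_G(a)))` centralises `⟨a^(C_G(p 0, p 1) T)⟩`: contradiction. (helper286's `LF.false_of_JU`.) -/
theorem false_of_cent (h : LF S P p) (hML : ML.Final.MLK.{u, u}) (hE : ML.Ex.Two.Ext.{u, u})
    (hJ : jj (o2 (dd p)) ≤ centralizer (zl (S : Subgroup G) P : Set G)) (hK : IsKGroup (cn p))
    (hU : (∀ A ∈ AA (o2 (ca p)), A ∈ AA (o2 (dd p))) → ∀ A ∈ AA (o2 (ca p)),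
      A ≤ centralizer (NoFF.Basic.V (zpowers (aa p)) (cn p ⊓ centralizer (closure {p 0, p 1} : Set G) ⊔
        Std.T (S : Subgroup G) p) : Set G)) : False := by
  have D := dtB h.toFiveL h.nT h.uni hJ hK
  have hdd : cn p ⊓ centralizer (zpowers (aa p) : Set G) = dd p := by rw [cent_zpowers]
  set N := NoFF.Basic.V (zpowers (aa p)) (cn p) with hN
  have hNe : IsElementaryAbelian 2 N := NO3S.EThree.ExactA.eab_mono D.eM D.NM
  have hNO : N ≤ o2 (dd p) := by
    rw [← hdd]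
    exact D.NM.trans D.MO
  have noN : NoOn (o2 (dd p)) N := by
    rw [← hdd]
    exact D.noOn hML D.TC le_rfl
  have hQ : o2 (dd p) ⊓ centralizer (N : Set G) = o2 (cn p) := by
    rw [← hdd]
    exact D.Q_eq
  obtain ⟨s, hsS, hs1, hs2, hsT⟩ := swap h.toFive
  have csn : cj s (cn p) = ca p := by
    rw [cn, ca, cj_cent, hs1]
  have csa : cj s (ca p) = cn p := by
    rw [cn, ca, cj_cent, hs2]
  have cdd : cj s (dd p) = dd p := by
    rw [dd, cj_inf, csn, csa, inf_comm]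
  have hAn : ∀ A ∈ AA (o2 (cn p)), A ∈ AA (o2 (dd p)) := by
    intro A hA
    rw [← hQ] at hA
    exact mem_AA_of_inf hNe hNO noN hA
  have hAa : ∀ A ∈ AA (o2 (ca p)), A ∈ AA (o2 (dd p)) := by
    intro A hA
    have h1 : cj s⁻¹ A ∈ AA (o2 (cn p)) := by
      have h2 := cj_mem_AA s⁻¹ hA
      rwa [← o2_cj, ← csn, cj_inv_cj] at h2
    have h2 := cj_mem_AA s (hAn _ h1)
    rwa [cj_cj_inv, ← o2_cj, cdd] at h2
  have hc : ∀ A ∈ AA (o2 (ca p)), A ≤ centralizer (N : Set G) := by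
    intro A hA
    have hAO : A ∈ AA (o2 (cn p ⊓ centralizer (zpowers (aa p) : Set G))) := by
      rw [hdd]
      exact hAa A hA
    exact le_trans (le_inf le_rfl (hU hAa A hA)) (D.fail hML hE hAO)
  -- `J(Q_a) = J(Q_n)`
  have h1 : ∀ A ∈ AA (o2 (ca p)), A ∈ AA (o2 (cn p)) := by
    intro A hA
    rw [← hQ]
    exact mem_inf_of_mem_AA hNe hNO noN (hAa A hA) (hc A hA)
  have h2 : ∀ A ∈ AA (o2 (cn p)), A ∈ AA (o2 (ca p)) := by
    intro A hA
    have h3 : cj s A ∈ AA (o2 (ca p)) := by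
      have h4 := cj_mem_AA s hA
      rwa [← o2_cj, csn] at h4
    have h4 := cj_mem_AA s⁻¹ (h1 _ h3)
    rwa [cj_inv_cj, ← o2_cj, ← csa, cj_inv_cj] at h4
  have e : AA (o2 (cn p)) = AA (o2 (ca p)) := Set.Subset.antisymm h2 h1
  have hn : cn p ≤ normalizer (jj (o2 (cn p)) : Set G) := by
    intro g hg
    rw [mem_normalizer_iff_cj, ← jj_cj, cj_eq_of_mem_normalizer (le_normalizer_o2 _ hg)]
  have ha : ca p ≤ normalizer (jj (o2 (cn p)) : Set G) := by
    rw [jj_eq, e, ← jj_eq]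
    intro g hg
    rw [mem_normalizer_iff_cj, ← jj_cj, cj_eq_of_mem_normalizer (le_normalizer_o2 _ hg)]
  refine h.false_of_local (R := jj (o2 (cn p))) ((Cfsg.Agent.ZN.ChoiceSit.isPGroup_o2 _).to_le (jj_le _)) ?_ (inf_le_left.trans hn)
    (inf_le_right.trans hn) (inf_le_right.trans ha)
  refine Cfsg.Agent.ZN.CaseTwo.jj_ne_bot (Cfsg.Agent.ZN.ChoiceSit.isPGroup_o2 _) ?_
  intro e
  have h7 := h.DD_le_o2 (n_mem_DD h.toFiveL)
  rw [e, mem_bot] at h7
  exact h.std.n_ne_one h7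

/-- **`EE = ∅`**: no offender of `O₂(X_12)` on `W_0`. -/
theorem ee_false (h : LF S P p) (hML : ML.Final.MLK.{u, u}) (hE : ML.Ex.Two.Ext.{u, u})
    (hJ : jj (o2 (dd p)) ≤ centralizer (zl (S : Subgroup G) P : Set G)) (hK : IsKGroup (cn p))
    (hne : ¬ ∃ A ≤ o2 (MFive.X (zv p) 1 2), IsElementaryAbelian 2 A ∧
      Offd (MFive.W (normalizer (zl (S : Subgroup G) P : Set G)) (zv p) 0) A) : False := by
  have jw := cent_W0 h.toFiveL hJ hne
  refine false_of_cent h hML hE hJ hK fun hAa A hA => ?_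
  -- `g` interchanges `p 1` and `p 4` and fixes `p 2`, `p 3`
  obtain ⟨σ, s0, s2, s3, s4⟩ : ∃ σ : Equiv.Perm (Fin 5), σ 0 = 2 ∧ σ 2 = 0 ∧ σ 3 = 3 ∧ σ 4 = 4 :=
    MFive.perm_four (by decide) (by decide) (by decide) (by decide) (by decide) (by decide) (by decide) (by decide)
      (by decide) (by decide) (by decide) (by decide)
  obtain ⟨g, hg, hgz⟩ := MFive.Inst.full_L h.toFiveL σ
  have hI : MFive.Ind (normalizer (zl (S : Subgroup G) P : Set G)) (zv p) g σ := ⟨hg, hgz⟩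
  have gaa : g ∈ ca p := by
    have e3 := hgz 3
    have e4 := hgz 4
    rw [s3, MFive.Inst.zv3] at e3
    rw [s4, MFive.Inst.zv4] at e4
    rw [mem_cent, aa, cm, e3, e4]
  have h1 : cj g⁻¹ A ∈ AA (o2 (ca p)) := by
    have h2 := cj_mem_AA g⁻¹ hA
    rwa [cj_eq_of_mem_normalizer (le_normalizer_o2 _ (inv_mem gaa))] at h2
  have h2 := cj_mono g ((le_jj (hAa _ h1)).trans jw)
  rw [cj_cj_inv, cj_centralizer, hI.W_eq, s0] at h2
  refine h2.trans (centralizer_le ?_)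
  refine le_trans ?_ (MFive.N_le_W_right (L := normalizer (zl (S : Subgroup G) P : Set G)) (z := zv p) 1 2)
  refine TwoB.V_le_of ?_ (H_norm h.toFiveL h.nT h.uni)
  rw [zpowers_le]
  exact mul_mem (MFive.z_mem_N (L := normalizer (zl (S : Subgroup G) P : Set G)) (z := zv p) (c := 3) (by decide) (by decide))
    (MFive.z_mem_N (c := 4) (by decide) (by decide))

theorem kg_n (h : FiveL S P p) : IsKGroup (cn p) := by
  refine h.ctx.kproper _ fun e => ?_
  obtain ⟨T₀⟩ : Nonempty (Sylow 2 G) := inferInstance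
  refine h.light T₀ fun x _ => ?_
  have h2 : x ∈ cn p := by rw [e]; exact mem_top x
  exact mem_cent.1 h2

/-- **Case (C)**: `J(O₂(D))` centralises `V`. -/
theorem false_of_J (h : LF S P p) (hML : ML.Final.MLK.{u, u}) (hE : ML.Ex.Two.Ext.{u, u})
    (hJ : jj (o2 (dd p)) ≤ centralizer (zl (S : Subgroup G) P : Set G)) : False := by
  have hK := kg_n h.toFiveL
  by_cases hX : MFive.X (zv p) 1 2 ≤ normalizer (zl (S : Subgroup G) P : Set G)
  · exact xl_false h hML hE hJ hX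
  · by_cases hne : ∃ A ≤ o2 (MFive.X (zv p) 1 2), IsElementaryAbelian 2 A ∧
        Offd (MFive.W (normalizer (zl (S : Subgroup G) P : Set G)) (zv p) 0) A
    · obtain ⟨g, hg, f, eD⟩ := failHyp h.toFiveL h.nT h.uni hJ hK hML hE h.zq hX
      obtain ⟨R, hR, hR2, hL, hD⟩ := f.local_off hne
      refine h.false_of_local' hR2 hR ?_ hL
      rw [eD] at hD
      have h1 := cj_mono g⁻¹ hD
      rw [cj_inv_cj, Cfsg.Agent.ZN.ChoiceBase.cj_normalizer,
        cj_eq_of_mem_normalizer (hL (inv_mem hg))] at h1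
      exact h1
    · exact ee_false h hML hE hJ hK hne

end Cfsg.Agent.Omega.NO3S.LightB
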