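import Cfsg.Agent.Omega.NO3S.LightB.Fail
import Cfsg.Agent.Omega.LFive.Frame
import Cfsg.Agent.ZN.CaseTwo

/-!
# LightL (E), `n = 5`: `J(O₂(D))` centralises `V`, `X_12 ≤ N(V)` (helper904; helper604 #25469 (iii), helper411 #25478)

By UNI `C_G(p 0, p 1) T ≤ N(V)`, so `U = ⟨a^(C_G(p 0, p 1) T)⟩ ≤ V` is centralised by `J(O)`; FAIL: `J(O)` centralises
`N = ⟨a^C⟩`, so `J(O) = J(O ∩ C(N))` is normalised by `C = C_G(n)`, and by `C_G(a)`.

* `H_le_L`, **`xl_false`**.
-/

set_option autoImplicit false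
set_option linter.unusedSectionVars false

namespace Cfsg.Agent.Omega.NO3S.LightB

open Subgroup Cfsg Cfsg.Agent.ZN Cfsg.Agent.Omega.MinPar Cfsg.Agent.Omega.Frame Cfsg.Agent.Omega.FrameNOFF
open Cfsg.Agent.ZN.ChoiceSit (Syl)
open Cfsg.Agent.ZN.ChoiceBase (AA cj cj_mono cj_cj_inv cj_inv_cj cj_mem_AA mem_normalizer_iff_cj cj_centralizer cj_inf
  jj_cj isPGroup_cj cj_eq_of_mem_normalizer)
open Cfsg.Agent.Omega.NO3S Cfsg.Agent.Omega.NTwo Cfsg.Agent.Omega.NO3S.Sym.Exit Cfsg.Agent.Omega.NO3S.Sym.Light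
open Cfsg.Agent.Omega.NO3S.MFive.Inst (zv TT)
open Cfsg.Agent.MinSimple.MinParabolic (IsMinPar le_of_forall)
open Cfsg.Agent.MinSimple.VModule
open Cfsg.Agent.Omega.LFive (LF)

universe u

variable {G : Type u} [Group G] [Finite G] {S : Sylow 2 G} {P : Subgroup G} {p : Fin 5 → G}

section light

variable (h : FiveL S P p)
include h

theorem X34_le (hX : MFive.X (zv p) 1 2 ≤ normalizer (zl (S : Subgroup G) P : Set G)) :
    MFive.X (zv p) 3 4 ≤ normalizer (zl (S : Subgroup G) P : Set G) := by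
  obtain ⟨σ, s1, s2⟩ : ∃ σ : Equiv.Perm (Fin 5), σ 1 = 3 ∧ σ 2 = 4 := MFive.perm_two (by decide) (by decide)
  obtain ⟨g, hg, hgz⟩ := MFive.Inst.full_L h σ
  have hI : MFive.Ind (normalizer (zl (S : Subgroup G) P : Set G)) (zv p) g σ := ⟨hg, hgz⟩
  have e := hI.X_eq 1 2
  rw [s1, s2] at e
  rw [← e, ← cj_eq_of_mem_normalizer (le_normalizer (H := normalizer (zl (S : Subgroup G) P : Set G)) hg)]
  exact cj_mono g hX

theorem le_L_B (hX : MFive.X (zv p) 1 2 ≤ normalizer (zl (S : Subgroup G) P : Set G)) {g : G}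
    (h0 : g * p 0 * g⁻¹ = p 0) (h1 : g * p 1 * g⁻¹ = p 1) (ha : g * aa p * g⁻¹ = aa p) :
    g ∈ normalizer (zl (S : Subgroup G) P : Set G) := by
  have h4 : g * p 4 * g⁻¹ = p 4 := by
    rw [← h.std.na, cm, ha, nn, cm, h0, h1]
  apply X34_le h hX
  rw [MFive.mem_X]
  intro k hk3 hk4
  have key : ∀ k : Fin 5, k ≠ 3 → k ≠ 4 → k = 0 ∨ k = 1 ∨ k = 2 := by decide
  rcases key k hk3 hk4 with rfl | rfl | rfl
  · exact comm_iff.1 h4
  · exact comm_iff.1 h0
  · exact comm_iff.1 h1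

/-- **`C_G(p 0, p 1) T` normalises `V`.** -/
theorem H_le_L (nT : normalizer (Std.T (S : Subgroup G) p : Set G) ≤ normalizer (zl (S : Subgroup G) P : Set G))
    (uni : Unn (S : Subgroup G) P p) (hX : MFive.X (zv p) 1 2 ≤ normalizer (zl (S : Subgroup G) P : Set G)) :
    centralizer ({nn p} : Set G) ⊓ centralizer (closure {p 0, p 1} : Set G) ⊔ Std.T (S : Subgroup G) p ≤
      normalizer (zl (S : Subgroup G) P : Set G) := by
  refine le_of_forall (S := Std.T (S : Subgroup G) p) le_sup_right ?_ ?_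
  · rintro g ⟨-, hgT⟩
    exact nT hgT
  · intro R hR hRH g hg
    by_cases ha : R ≤ centralizer ({aa p} : Set G)
    · have hga := mem_cent.1 (ha hg)
      rcases pair_of h (mem_cent.1 (H_le_C h (hRH hg))) (H_le_norm h (hRH hg)) with e | e
      · exact le_L_B h hX e.1 e.2 hga
      · obtain ⟨t, ht, ht0, ht1⟩ := exists_t h
        have hta := h.std.T_a ht
        have h3 : t⁻¹ * g ∈ normalizer (zl (S : Subgroup G) P : Set G) := by
          refine le_L_B h hX ?_ ?_ ?_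
          · calc t⁻¹ * g * p 0 * (t⁻¹ * g)⁻¹ = t⁻¹ * (g * p 0 * g⁻¹) * t := by group
              _ = t⁻¹ * (t * p 0 * t⁻¹) * t := by rw [e.1, ht0]
              _ = p 0 := by group
          · calc t⁻¹ * g * p 1 * (t⁻¹ * g)⁻¹ = t⁻¹ * (g * p 1 * g⁻¹) * t := by group
              _ = t⁻¹ * (t * p 1 * t⁻¹) * t := by rw [e.2, ht1]
              _ = p 1 := by group
          · calc t⁻¹ * g * aa p * (t⁻¹ * g)⁻¹ = t⁻¹ * (g * aa p * g⁻¹) * t := by group
              _ = t⁻¹ * (t * aa p * t⁻¹) * t := by rw [hga, hta]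
              _ = aa p := by group
        have h5 := mul_mem (nT (le_normalizer ht)) h3
        rwa [mul_inv_cancel_left] at h5
    · exact uni R hR (hRH.trans (H_le_C h)) ha hg

/-- the swap `s`: `C_G(a)` normalises what `C_G(n)` and `s` normalise -/
theorem ca_le {R : Subgroup G} (hC : centralizer ({nn p} : Set G) ≤ normalizer (R : Set G)) {s : G}
    (hs : s ∈ normalizer (R : Set G)) (hs2 : s * aa p * s⁻¹ = nn p) :
    centralizer ({aa p} : Set G) ≤ normalizer (R : Set G) := by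
  intro g hg
  have h1 : s * g * s⁻¹ ∈ centralizer ({nn p} : Set G) := by
    rw [mem_cent, ← hs2]
    calc s * g * s⁻¹ * (s * aa p * s⁻¹) * (s * g * s⁻¹)⁻¹ = s * (g * aa p * g⁻¹) * s⁻¹ := by group
      _ = s * aa p * s⁻¹ := by rw [mem_cent.1 hg]
  have h2 := mul_mem (mul_mem (inv_mem hs) (hC h1)) hs
  have e : s⁻¹ * (s * g * s⁻¹) * s = g := by group
  rwa [e] at h2

theorem swap_norm_D {s : G} (hs1 : s * nn p * s⁻¹ = aa p) (hs2 : s * aa p * s⁻¹ = nn p) :
    s ∈ normalizer ((centralizer ({nn p} : Set G) ⊓ centralizer ({aa p} : Set G) : Subgroup G) : Set G) := by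
  rw [mem_normalizer_iff_cj, cj_inf, cj_cent, cj_cent, hs1, hs2, inf_comm]

end light

/-- **`X_12 ≤ N(V)`, `J(O₂(D)) ≤ C(V)`.** -/
theorem xl_false (h : LF S P p) (hML : ML.Final.MLK.{u, u}) (hE : ML.Ex.Two.Ext.{u, u})
    (J : jj (o2 (centralizer ({nn p} : Set G) ⊓ centralizer ({aa p} : Set G))) ≤
      centralizer (zl (S : Subgroup G) P : Set G))
    (hX : MFive.X (zv p) 1 2 ≤ normalizer (zl (S : Subgroup G) P : Set G)) : False := by
  have hK : IsKGroup (centralizer ({nn p} : Set G)) := by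
    refine h.ctx.kproper _ fun e => ?_
    have h1 : nn p ∈ Subgroup.center G := by
      rw [Subgroup.mem_center_iff]
      intro g
      have h2 : g ∈ centralizer ({nn p} : Set G) := by rw [e]; exact mem_top g
      exact comm_iff.1 (mem_cent.1 h2)
    have h3 : nn p ∈ Subgroup.center G → False := by
      intro _
      obtain ⟨T₀⟩ : Nonempty (Sylow 2 G) := inferInstance
      refine h.light T₀ fun x _ => ?_
      have h2 : x ∈ centralizer ({nn p} : Set G) := by rw [e]; exact mem_top x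
      exact mem_cent.1 h2
    exact h3 h1
  have hD := dtB h.toFiveL h.nT h.uni J hK
  obtain ⟨O, hO⟩ : ∃ O : Subgroup G, O = o2 (centralizer ({nn p} : Set G) ⊓ centralizer ({aa p} : Set G)) := ⟨_, rfl⟩
  have hO' : o2 (centralizer ({nn p} : Set G) ⊓ centralizer (zpowers (aa p) : Set G)) = O := by
    rw [cent_zpowers, hO]
  rw [← hO] at J
  -- `J(O)` centralises `N`
  have h1 : jj O ≤ centralizer (NoFF.Basic.V (zpowers (aa p)) (centralizer ({nn p} : Set G)) : Set G) := by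
    rw [ChoiceBase.jj_eq]
    refine sSup_le fun A hA => ?_
    have h2 := hD.fail hML hE (A := A) (by rw [hO']; exact hA)
    refine le_trans (le_inf le_rfl ?_) h2
    refine ((ChoiceBase.le_jj hA).trans J).trans (centralizer_le ?_)
    exact TwoB.V_le_of (zpowers_le.2 h.toFiveL.a_mem) (H_le_L h.toFiveL h.nT h.uni hX)
  have h2 : jj (O ⊓ centralizer (NoFF.Basic.V (zpowers (aa p)) (centralizer ({nn p} : Set G)) : Set G)) = jj O :=
    ChoiceBase.jj_eq_of_jj_le (le_inf (ChoiceBase.jj_le O) h1) inf_le_left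
  have h3 : centralizer ({nn p} : Set G) ≤ normalizer (jj O : Set G) := by
    intro g hg
    have h4 := hD.C_Q hg
    rw [hO'] at h4
    rw [mem_normalizer_iff_cj, ← h2, ← jj_cj, cj_eq_of_mem_normalizer h4]
  obtain ⟨s, -, hs1, hs2, -⟩ := swap h.toFive
  have h5 : s ∈ normalizer (jj O : Set G) := by
    have h6 : cj s O = O := by
      rw [hO, ← ChoiceSit.o2_cj, cj_eq_of_mem_normalizer (swap_norm_D h.toFiveL hs1 hs2)]
    rw [mem_normalizer_iff_cj, ← jj_cj, h6]
  have h6 := ca_le h.toFiveL h3 h5 hs2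
  have hO2 : IsPGroup 2 O := by rw [hO]; exact ChoiceSit.isPGroup_o2 _
  refine h.false_of_local (R := jj O) (hO2.to_le (ChoiceBase.jj_le O)) ?_ (inf_le_left.trans h3)
    (inf_le_right.trans h3) (inf_le_right.trans h6)
  refine CaseTwo.jj_ne_bot hO2 ?_
  intro e
  have h7 := (DD_le_o2D h.toFiveL) (n_mem_DD h.toFiveL)
  rw [← hO, e, mem_bot] at h7
  exact h.std.n_ne_one h7

end Cfsg.Agent.Omega.NO3S.LightB
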