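import Cfsg.Prelude.Def_Classification2
import Cfsg.Agent.MinSimple.MinParabolic
import Cfsg.Agent.ZN.ChoiceBase

/-!
# (E), `V_P` = even subsets of five letters, light not 2-central: the frame of bb #25060 (B) (helper411)

`C` (= `C_G(12)`) acts on the elementary abelian `W = ⟨V^C⟩`, `n` (= 12), `a` (= 34), `y` (= `z_1`) in `W`, `C`
centralises `n`, `T` is a Sylow 2-subgroup of `C` and `N_C(T)` fixes `a`, `T` fixes the coset `y⟨n⟩`, every `T`-minimal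
`P ≤ C` which moves `a` fixes the coset `y⟨n⟩`, `an` is not conjugate to `a`; `W ≤ O₂(C_C(a))`.

* `Fr C T V W n a y` : this situation.
-/

set_option autoImplicit false

namespace Cfsg.Agent.Omega.NO3S.LightB

open Subgroup Cfsg Cfsg.Agent.ZN
open Cfsg.Agent.MinSimple.MinParabolic (IsMinPar)

universe u

variable {G : Type u} [Group G]

/-- **The situation of bb #25060 (B).** -/
structure Fr (C T V W : Subgroup G) (n a y : G) : Prop where
  TC : T ≤ C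
  two : IsPGroup 2 T
  syl : ¬ 2 ∣ T.relIndex C
  CW : C ≤ normalizer (W : Set G)
  Wab : ∀ v ∈ W, ∀ w ∈ W, v * w = w * v
  Wsq : ∀ v ∈ W, v * v = 1
  VW : V ≤ W
  /-- `W = ⟨V^C⟩` -/
  gen : ∀ X : Subgroup G, V ≤ X → C ≤ normalizer (X : Set G) → W ≤ X
  nW : n ∈ W
  aW : a ∈ W
  yW : y ∈ W
  cn : ∀ c ∈ C, c * n * c⁻¹ = n
  /-- `N_C(T)` fixes `a` -/
  na : ∀ g ∈ C, g ∈ normalizer (T : Set G) → g * a * g⁻¹ = a
  ty : ∀ t ∈ T, t * y * t⁻¹ = y ∨ t * y * t⁻¹ = y * n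
  /-- `an` is not conjugate to `a` -/
  hv : ∀ c ∈ C, c * a * c⁻¹ ≠ a * n
  /-- UNI -/
  uni : ∀ P : Subgroup G, IsMinPar T P → P ≤ C → (∃ p ∈ P, p * a * p⁻¹ ≠ a) →
    ∀ g ∈ P, Odd (orderOf g) → g * y * g⁻¹ = y ∨ g * y * g⁻¹ = y * n
  WO : W ≤ o2 (C ⊓ centralizer ({a} : Set G))
  KC : IsKGroup C

end Cfsg.Agent.Omega.NO3S.LightB
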