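import Cfsg.Agent.Omega.NO3S.LightB.Facts
import Cfsg.Agent.Omega.NO3S.TwoB.Main
import Cfsg.Agent.Omega.NO3S.MFive.Inst

/-!
# LightL (E), `n = 5`: the instance of `TwoB.DtB` (helper286; helper411 #25060 (B)) over `FiveL S P p` (helper904)

`C = C_G(nn p)`, `T = Std.T S p`, `M = DD V (nn p)`, `Z = ⟨aa p⟩`, `Y = ⟨p 0, p 1⟩`.

* `Unn S P p` : UNI: the `T`-minimal `R ≤ C_G(n)` which move `a` normalise `V`;
* `dtB` : from `FiveL`, `N_G(T) ≤ N_G(V)`, UNI, `J(O₂(D)) ≤ C(V)`.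
-/

set_option autoImplicit false
set_option linter.unusedSectionVars false

namespace Cfsg.Agent.Omega.NO3S.LightB

open Subgroup Cfsg Cfsg.Agent.ZN Cfsg.Agent.Omega.MinPar Cfsg.Agent.Omega.Frame Cfsg.Agent.Omega.FrameNOFF
open Cfsg.Agent.ZN.ChoiceSit (Syl)
open Cfsg.Agent.Omega.NO3S Cfsg.Agent.Omega.NTwo Cfsg.Agent.Omega.NO3S.Sym.Exit Cfsg.Agent.Omega.NO3S.Sym.Light
open Cfsg.Agent.MinSimple.MinParabolic (IsMinPar)
open Cfsg.Agent.MinSimple.VModule

universe u

variable {G : Type u} [Group G]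

/-- **UNI** over `T = C_S(n)`: the `T`-minimal `R ≤ C_G(n)` which move `a` normalise `V`. -/
def Unn (S P : Subgroup G) (p : Fin 5 → G) : Prop :=
  ∀ R : Subgroup G, IsMinPar (Std.T S p) R → R ≤ centralizer ({nn p} : Set G) →
    ¬ R ≤ centralizer ({aa p} : Set G) → R ≤ normalizer (zl S P : Set G)

theorem cent_zpowers (x : G) : centralizer (zpowers x : Set G) = centralizer ({x} : Set G) := by
  rw [zpowers_eq_closure, centralizer_closure]

theorem cent_pair (x y : G) : centralizer (closure {x, y} : Set G) = centralizer {x, y} := centralizer_closure _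

theorem mem_cent_pair {x y g : G} : g ∈ centralizer ({x, y} : Set G) ↔ g * x * g⁻¹ = x ∧ g * y * g⁻¹ = y := by
  rw [mem_centralizer_iff]
  constructor
  · intro h
    exact ⟨comm_iff.2 (h x (Or.inl rfl)).symm, comm_iff.2 (h y (Or.inr rfl)).symm⟩
  · rintro ⟨h1, h2⟩ z (rfl | rfl)
    · exact (comm_iff.1 h1).symm
    · exact (comm_iff.1 h2).symm

/-- an element of odd order which permutes two elements fixes them -/
theorem fix_of_odd {g x y : G} (ho : Odd (orderOf g))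
    (h : (g * x * g⁻¹ = x ∧ g * y * g⁻¹ = y) ∨ (g * x * g⁻¹ = y ∧ g * y * g⁻¹ = x)) :
    g * x * g⁻¹ = x ∧ g * y * g⁻¹ = y := by
  rcases h with h | ⟨h1, h2⟩
  · exact h
  · obtain ⟨m, hm⟩ := ho
    have e : g = (g * g) ^ (m + 1) := by
      have h3 : g ^ (2 * m + 1) = 1 := by rw [← hm]; exact pow_orderOf_eq_one g
      calc g = g ^ (2 * m + 1) * g := by rw [h3, one_mul]
        _ = (g * g) ^ (m + 1) := by rw [← pow_two, ← pow_mul, ← pow_succ]; congr 1
    have h4 : g * g ∈ centralizer ({x, y} : Set G) := by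
      rw [mem_cent_pair]
      constructor
      · rw [← cc, h1, h2]
      · rw [← cc, h2, h1]
    have h5 : g ∈ centralizer ({x, y} : Set G) := by
      rw [e]
      exact pow_mem h4 _
    exact mem_cent_pair.1 h5

variable [Finite G] {S : Sylow 2 G} {P : Subgroup G} {p : Fin 5 → G}

section light

variable (h : FiveL S P p)
include h

theorem norm_perm {g : G} (hg : g ∈ normalizer (zl (S : Subgroup G) P : Set G)) :
    ∃ σ : Equiv.Perm (Fin 5), ∀ i, g * p i * g⁻¹ = p (σ i) := by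
  obtain ⟨σ, hσ⟩ := MFive.Inst.act_norm h hg
  refine ⟨MFive.Inst.rho * σ * MFive.Inst.rho⁻¹, fun i => ?_⟩
  have h1 := hσ (MFive.Inst.rho⁻¹ i)
  have e : ∀ j, MFive.Inst.zv p j = p (MFive.Inst.rho j) := fun _ => rfl
  rw [e, e] at h1
  simpa using h1

/-- `N(V) ∩ C(n)` permutes `p 0, p 1` -/
theorem norm_pair {g : G} (hg : g ∈ normalizer (zl (S : Subgroup G) P : Set G)) (hn : g * nn p * g⁻¹ = nn p) :
    (g * p 0 * g⁻¹ = p 0 ∧ g * p 1 * g⁻¹ = p 1) ∨ (g * p 0 * g⁻¹ = p 1 ∧ g * p 1 * g⁻¹ = p 0) := by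
  obtain ⟨σ, hσ⟩ := norm_perm h hg
  rw [nn, cm, hσ, hσ] at hn
  rw [hσ, hσ]
  rcases h.std.pair_inj (fun e => absurd (σ.injective e) (by decide)) (by decide) hn with ⟨e1, e2⟩ | ⟨e1, e2⟩
  · exact Or.inl ⟨by rw [e1], by rw [e2]⟩
  · exact Or.inr ⟨by rw [e1], by rw [e2]⟩

theorem norm_Y {g : G} (hg : (g * p 0 * g⁻¹ = p 0 ∧ g * p 1 * g⁻¹ = p 1) ∨ (g * p 0 * g⁻¹ = p 1 ∧ g * p 1 * g⁻¹ = p 0)) :
    g ∈ normalizer (closure {p 0, p 1} : Set G) := by
  rw [ChoiceBase.mem_normalizer_iff_cj, MFive.cj_closure, Set.image_pair]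
  rcases hg with ⟨h1, h2⟩ | ⟨h1, h2⟩
  · rw [h1, h2]
  · rw [h1, h2, Set.pair_comm]

/-- the elements of `⟨p 0, p 1⟩` -/
theorem mem_Y {x : G} (hx : x ∈ closure {p 0, p 1}) : x = 1 ∨ x = p 0 ∨ x = p 1 ∨ x = nn p := by
  have h1 : closure {p 0, p 1} ≤ kl (p 0) (p 1) (h.std.sq 0) (h.std.sq 1) (h.std.comm 0 1) := by
    rw [closure_le]
    rintro y (rfl | rfl)
    · exact mem_kl.2 (Or.inr (Or.inl rfl))
    · exact mem_kl.2 (Or.inr (Or.inr (Or.inl rfl)))
  exact mem_kl.1 (h1 hx)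

/-- **The instance of `TwoB.DtB`.** -/
theorem dtB (nT : normalizer (Std.T (S : Subgroup G) p : Set G) ≤ normalizer (zl (S : Subgroup G) P : Set G))
    (uni : Unn (S : Subgroup G) P p)
    (J : jj (o2 (centralizer ({nn p} : Set G) ⊓ centralizer ({aa p} : Set G))) ≤
      centralizer (zl (S : Subgroup G) P : Set G))
    (K : IsKGroup (centralizer ({nn p} : Set G))) :
    TwoB.DtB (centralizer ({nn p} : Set G)) (Std.T (S : Subgroup G) p) (DD (zl (S : Subgroup G) P) (nn p))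
      (zl (S : Subgroup G) P) (zpowers (aa p)) (closure {p 0, p 1}) where
  CM := norm_DD
  eM := DD_el h
  MV := le_rfl
  TC := T_le_C
  two := T_two
  syl := h.not_dvd
  ZM := zpowers_le.2 (a_mem_DD h)
  YM := by
    rw [closure_le]
    rintro y (rfl | rfl)
    · exact p_mem_DD h 0
    · exact p_mem_DD h 1
  TZ := by
    rw [cent_zpowers]
    exact T_le_Ca h.toFive
  NZ := by
    rw [cent_zpowers]
    exact (norm_le_D h).trans inf_le_right
  NY := fun g hg => norm_Y h (norm_pair h (nT hg.2) (mem_cent.1 hg.1))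
  cY := by
    rintro x ⟨hx, hxT⟩
    have hcn : ∀ c ∈ centralizer ({nn p} : Set G), c * nn p = nn p * c := fun c hc => comm_iff.1 (mem_cent.1 hc)
    obtain ⟨t, ht, ht1⟩ := MFive.Inst.exists_t h
    have htT := MFive.Inst.TT_le h ht
    have htp := (T_pair h.toFive htT).resolve_left fun e => absurd (h.std.inj (ht1.symm.trans e.1)) (by decide)
    have hxt : t * x * t⁻¹ = x := comm_iff.2 (mem_centralizer_iff.1 hxT t htT)
    rcases mem_Y h hx with rfl | rfl | rfl | rfl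
    · exact one_mem _
    · exact absurd (h.std.inj (htp.1.symm.trans hxt)) (by decide)
    · exact absurd (h.std.inj (htp.2.symm.trans hxt)) (by decide)
    · exact mem_centralizer_iff.2 hcn
  uni := by
    intro R hR hRC hRZ g hg ho
    rw [cent_zpowers] at hRZ
    rw [cent_pair, mem_cent_pair]
    exact fix_of_odd ho (norm_pair h (uni R hR hRC hRZ hg) (mem_cent.1 (hRC hg)))
  MO := by
    rw [cent_zpowers]
    exact DD_le_o2D h
  J := by
    rw [cent_zpowers]
    exact J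
  K := K

end light

end Cfsg.Agent.Omega.NO3S.LightB
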