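import Cfsg.Agent.Omega.NO3S.LightB.Dt
import Cfsg.Agent.Omega.NO3S.MFive.FailDef

/-!
# LightL (E), `n = 5`: `MFive.FailHyp` over `FiveL S P p` (helper904)

`L = N_G(V)`, `z = zv p` (`z 0 = p 4`, `z 1 = p 0`, `z 2 = p 1`, `z 3 = p 2`, `z 4 = p 3`), `T = Std.T S p`,
`C = C_G(nn p)`, `D = C ⊓ C_G(aa p)`, `O = O₂(D)`.

* `H_norm` : `C_G(p 0, p 1) T` normalises `N_12` (UNI and generation over `T`);
* `fail12` : `A ∈ AA(O)` centralising `N_12` centralises `⟨a^C⟩`;
* **`failHyp`** : `FailHyp L (TT S p) (cj g T) (zv p)` for some `g ∈ L` (pairs `{0, 4}`, `{1, 2}` of `FailHyp`).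
-/

set_option autoImplicit false
set_option linter.unusedSectionVars false

namespace Cfsg.Agent.Omega.NO3S.LightB

open Subgroup Cfsg Cfsg.Agent.ZN Cfsg.Agent.Omega.MinPar Cfsg.Agent.Omega.Frame Cfsg.Agent.Omega.FrameNOFF
open Cfsg.Agent.ZN.ChoiceSit (Syl)
open Cfsg.Agent.ZN.ChoiceBase (AA cj cj_mono cj_cj_inv cj_inv_cj cj_mem_AA mem_normalizer_iff_cj cj_centralizer cj_inf
  jj_cj isPGroup_cj cj_eq_of_mem_normalizer)
open Cfsg.Agent.Omega.NO3S Cfsg.Agent.Omega.NTwo Cfsg.Agent.Omega.NO3S.Sym.Exit Cfsg.Agent.Omega.NO3S.Sym.Light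
open Cfsg.Agent.Omega.NO3S.MFive.Inst (zv TT)
open Cfsg.Agent.MinSimple.MinParabolic (IsMinPar le_of_forall)
open Cfsg.Agent.MinSimple.VModule

universe u

variable {G : Type u} [Group G]

theorem Zc_comm (z : Fin 5 → G) (a b : Fin 5) : MFive.Zc z a b = MFive.Zc z b a := by
  unfold MFive.Zc
  congr 1
  ext g
  constructor
  · rintro ⟨c, h1, h2, h3⟩
    exact ⟨c, h2, h1, h3⟩
  · rintro ⟨c, h1, h2, h3⟩
    exact ⟨c, h2, h1, h3⟩

theorem N_comm (L : Subgroup G) (z : Fin 5 → G) (a b : Fin 5) : MFive.N L z a b = MFive.N L z b a := by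
  unfold MFive.N
  rw [MFive.Y_comm, Zc_comm]

theorem cj_cent (g x : G) : cj g (centralizer ({x} : Set G)) = centralizer ({g * x * g⁻¹} : Set G) := by
  rw [← cent_zpowers, cj_centralizer, ← cent_zpowers]
  congr 2
  change (zpowers x).map (MulAut.conj g).toMonoidHom = _
  rw [MonoidHom.map_zpowers]
  rfl

theorem cj_zpowers (g x : G) : cj g (zpowers x) = zpowers (g * x * g⁻¹) := by
  change (zpowers x).map (MulAut.conj g).toMonoidHom = _
  rw [MonoidHom.map_zpowers]
  rfl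

theorem cj_CC {L : Subgroup G} {z : Fin 5 → G} {g : G} {σ : Equiv.Perm (Fin 5)} (hI : MFive.Ind L z g σ) (a b : Fin 5) :
    cj g (MFive.CC z a b) = MFive.CC z (σ a) (σ b) := by
  unfold MFive.CC
  rw [cj_cent, cm, hI.eq, hI.eq]

theorem cj_NB {L : Subgroup G} {z : Fin 5 → G} {g : G} {σ : Equiv.Perm (Fin 5)} (hI : MFive.Ind L z g σ)
    (a b c d : Fin 5) : cj g (MFive.NB z a b c d) = MFive.NB z (σ a) (σ b) (σ c) (σ d) := by
  unfold MFive.NB
  rw [MFive.cj_nc, cj_CC hI, cj_zpowers, cm, hI.eq, hI.eq]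

variable [Finite G] {S : Sylow 2 G} {P : Subgroup G} {p : Fin 5 → G}

section light

variable (h : FiveL S P p)
include h

/-- some `t ∈ T` interchanges `p 0` and `p 1` -/
theorem exists_t : ∃ t ∈ Std.T (S : Subgroup G) p, t * p 0 * t⁻¹ = p 1 ∧ t * p 1 * t⁻¹ = p 0 := by
  obtain ⟨t, ht, ht1⟩ := MFive.Inst.exists_t h
  have htT := MFive.Inst.TT_le h ht
  exact ⟨t, htT, (T_pair h.toFive htT).resolve_left fun e => absurd (h.std.inj (ht1.symm.trans e.1)) (by decide)⟩

/-- `N(V) ∩ C(n)` normalises `N_12` -/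
theorem normN_A {g : G} (hg : g ∈ normalizer (zl (S : Subgroup G) P : Set G)) (hn : g * nn p * g⁻¹ = nn p) :
    g ∈ normalizer (MFive.N (normalizer (zl (S : Subgroup G) P : Set G)) (zv p) 1 2 : Set G) := by
  obtain ⟨σ, hσ⟩ := MFive.Inst.act_norm h hg
  have hI : MFive.Ind (normalizer (zl (S : Subgroup G) P : Set G)) (zv p) g σ := ⟨hg, hσ⟩
  have hinj := (MFive.Inst.zfv h).inj
  rw [mem_normalizer_iff_cj, hI.N_eq]
  have k1 := hσ 1
  have k2 := hσ 2
  rw [MFive.Inst.zv1] at k1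
  rw [MFive.Inst.zv2] at k2
  rcases norm_pair h hg hn with ⟨e1, e2⟩ | ⟨e1, e2⟩
  · have s1 : σ 1 = 1 := hinj (by rw [← k1, e1, MFive.Inst.zv1])
    have s2 : σ 2 = 2 := hinj (by rw [← k2, e2, MFive.Inst.zv2])
    rw [s1, s2]
  · have s1 : σ 1 = 2 := hinj (by rw [← k1, e1, MFive.Inst.zv2])
    have s2 : σ 2 = 1 := hinj (by rw [← k2, e2, MFive.Inst.zv1])
    rw [s1, s2, N_comm]

/-- `C(p 0, p 1, a)` normalises `N_12` -/
theorem normN_B {g : G} (h0 : g * p 0 * g⁻¹ = p 0) (h1 : g * p 1 * g⁻¹ = p 1) (ha : g * aa p * g⁻¹ = aa p) :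
    g ∈ normalizer (MFive.N (normalizer (zl (S : Subgroup G) P : Set G)) (zv p) 1 2 : Set G) := by
  have h4 : g * p 4 * g⁻¹ = p 4 := by
    rw [← h.std.na, cm, ha, nn, cm, h0, h1]
  have hX : g ∈ MFive.X (zv p) 3 4 := by
    rw [MFive.mem_X]
    intro k hk3 hk4
    have key : ∀ k : Fin 5, k ≠ 3 → k ≠ 4 → k = 0 ∨ k = 1 ∨ k = 2 := by decide
    rcases key k hk3 hk4 with rfl | rfl | rfl
    · exact comm_iff.1 h4
    · exact comm_iff.1 h0
    · exact comm_iff.1 h1
  exact MFive.Y_norm_N 1 2 (MFive.X_le_Y (by decide) (by decide) (by decide) (by decide) (by decide) hX)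

/-- elements of `C(n) ∩ N(⟨p 0, p 1⟩)` permute `p 0, p 1` -/
theorem pair_of {g : G} (hn : g * nn p * g⁻¹ = nn p) (hg : g ∈ normalizer (closure {p 0, p 1} : Set G)) :
    (g * p 0 * g⁻¹ = p 0 ∧ g * p 1 * g⁻¹ = p 1) ∨ (g * p 0 * g⁻¹ = p 1 ∧ g * p 1 * g⁻¹ = p 0) := by
  have h0 : g * p 0 * g⁻¹ ∈ closure {p 0, p 1} := (mem_normalizer_iff.1 hg _).1 (subset_closure (Or.inl rfl))
  have e1 : g * p 1 * g⁻¹ = g * p 0 * g⁻¹ * nn p := by
    rw [p_one h.toFive, cm, hn]
  rcases mem_Y h h0 with k | k | k | k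
  · exfalso
    apply h.std.ne 0
    calc p 0 = g⁻¹ * (g * p 0 * g⁻¹) * g := by group
      _ = 1 := by rw [k]; group
  · left
    exact ⟨k, by rw [e1, k, ← p_one h.toFive]⟩
  · right
    refine ⟨k, ?_⟩
    rw [e1, k, nn, h.std.comm 0 1, ← mul_assoc, h.std.sq, one_mul]
  · exfalso
    have k2 := conj_inj (k.trans hn.symm)
    exact h.std.mul_ne (i := 0) (j := 1) (by decide) 0 k2.symm

theorem H_le_C : centralizer ({nn p} : Set G) ⊓ centralizer (closure {p 0, p 1} : Set G) ⊔ Std.T (S : Subgroup G) p ≤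
    centralizer ({nn p} : Set G) := sup_le inf_le_left T_le_C

theorem H_le_norm : centralizer ({nn p} : Set G) ⊓ centralizer (closure {p 0, p 1} : Set G) ⊔ Std.T (S : Subgroup G) p ≤
    normalizer (closure {p 0, p 1} : Set G) :=
  sup_le (inf_le_right.trans (centralizer_le_normalizer _)) fun _ ht => norm_Y h (T_pair h.toFive ht)

/-- **`C_G(p 0, p 1) T` normalises `N_12`.** -/
theorem H_norm (nT : normalizer (Std.T (S : Subgroup G) p : Set G) ≤ normalizer (zl (S : Subgroup G) P : Set G))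
    (uni : Unn (S : Subgroup G) P p) :
    centralizer ({nn p} : Set G) ⊓ centralizer (closure {p 0, p 1} : Set G) ⊔ Std.T (S : Subgroup G) p ≤
      normalizer (MFive.N (normalizer (zl (S : Subgroup G) P : Set G)) (zv p) 1 2 : Set G) := by
  refine le_of_forall (S := Std.T (S : Subgroup G) p) le_sup_right ?_ ?_
  · rintro g ⟨hgH, hgT⟩
    exact normN_A h (nT hgT) (mem_cent.1 (H_le_C h hgH))
  · intro R hR hRH g hg
    by_cases ha : R ≤ centralizer ({aa p} : Set G)
    · have hga := mem_cent.1 (ha hg)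
      rcases pair_of h (mem_cent.1 (H_le_C h (hRH hg))) (H_le_norm h (hRH hg)) with e | e
      · exact normN_B h e.1 e.2 hga
      · obtain ⟨t, ht, ht0, ht1⟩ := exists_t h
        have hta := h.std.T_a ht
        have htn := (Std.mem_T.1 ht).2
        have h3 : t⁻¹ * g ∈ normalizer (MFive.N (normalizer (zl (S : Subgroup G) P : Set G)) (zv p) 1 2 : Set G) := by
          refine normN_B h ?_ ?_ ?_
          · calc t⁻¹ * g * p 0 * (t⁻¹ * g)⁻¹ = t⁻¹ * (g * p 0 * g⁻¹) * t := by group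
              _ = t⁻¹ * (t * p 0 * t⁻¹) * t := by rw [e.1, ht0]
              _ = p 0 := by group
          · calc t⁻¹ * g * p 1 * (t⁻¹ * g)⁻¹ = t⁻¹ * (g * p 1 * g⁻¹) * t := by group
              _ = t⁻¹ * (t * p 1 * t⁻¹) * t := by rw [e.2, ht1]
              _ = p 1 := by group
          · calc t⁻¹ * g * aa p * (t⁻¹ * g)⁻¹ = t⁻¹ * (g * aa p * g⁻¹) * t := by group
              _ = t⁻¹ * (t * aa p * t⁻¹) * t := by rw [hga, hta]
              _ = aa p := by group
        have h4 : t ∈ normalizer (MFive.N (normalizer (zl (S : Subgroup G) P : Set G)) (zv p) 1 2 : Set G) :=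
          normN_A h (nT (le_normalizer ht)) htn
        have h5 := mul_mem h4 h3
        rwa [mul_inv_cancel_left] at h5
    · exact normN_A h (uni R hR (hRH.trans (H_le_C h)) ha hg) (mem_cent.1 (H_le_C h (hRH hg)))

variable (nT : normalizer (Std.T (S : Subgroup G) p : Set G) ≤ normalizer (zl (S : Subgroup G) P : Set G))
  (uni : Unn (S : Subgroup G) P p)
  (J : jj (o2 (centralizer ({nn p} : Set G) ⊓ centralizer ({aa p} : Set G))) ≤
    centralizer (zl (S : Subgroup G) P : Set G))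
  (K : IsKGroup (centralizer ({nn p} : Set G))) (hML : ML.Final.MLK.{u, u}) (hE : ML.Ex.Two.Ext.{u, u})
include nT uni J K hML hE

/-- **FAIL**, pairs `{1, 2}`, `{3, 4}` -/
theorem fail12 {A : Subgroup G} (hA : A ∈ AA (o2 (centralizer ({nn p} : Set G) ⊓ centralizer ({aa p} : Set G))))
    (hc : A ≤ centralizer (MFive.N (normalizer (zl (S : Subgroup G) P : Set G)) (zv p) 1 2 : Set G)) :
    A ≤ centralizer (MFive.NB (zv p) 1 2 3 4 : Set G) := by
  have h1 := (dtB h nT uni J K).fail hML hE (A := A) (by rw [cent_zpowers]; exact hA)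
  refine le_trans (le_inf le_rfl ?_) h1
  refine hc.trans (centralizer_le ?_)
  refine TwoB.V_le_of ?_ (H_norm h nT uni)
  rw [zpowers_le]
  exact mul_mem (MFive.z_mem_N (L := normalizer (zl (S : Subgroup G) P : Set G)) (z := zv p) (c := 3) (by decide) (by decide))
    (MFive.z_mem_N (c := 4) (by decide) (by decide))

/-- **The last case**: `MFive.FailHyp`. -/
theorem failHyp (hz : zc (o2 P) = zl (S : Subgroup G) P)
    (hX : ¬ MFive.X (zv p) 1 2 ≤ normalizer (zl (S : Subgroup G) P : Set G)) :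
    ∃ g ∈ normalizer (zl (S : Subgroup G) P : Set G), MFive.FailHyp (normalizer (zl (S : Subgroup G) P : Set G))
      (TT (S : Subgroup G) p) (cj g (Std.T (S : Subgroup G) p)) (zv p) ∧
      MFive.DD (zv p) = cj g (centralizer ({nn p} : Set G) ⊓ centralizer ({aa p} : Set G)) := by
  obtain ⟨σ, s1, s2, s3, s4⟩ : ∃ σ : Equiv.Perm (Fin 5), σ 1 = 0 ∧ σ 2 = 4 ∧ σ 3 = 1 ∧ σ 4 = 2 :=
    MFive.perm_four (by decide) (by decide) (by decide) (by decide) (by decide) (by decide) (by decide) (by decide)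
      (by decide) (by decide) (by decide) (by decide)
  obtain ⟨g, hg, hgz⟩ := MFive.Inst.full_L h σ
  have hI : MFive.Ind (normalizer (zl (S : Subgroup G) P : Set G)) (zv p) g σ := ⟨hg, hgz⟩
  have e1 : cj g (centralizer ({nn p} : Set G)) = MFive.CC (zv p) 0 4 := by
    have := cj_CC hI 1 2
    rw [s1, s2] at this
    exact this
  have e2 : cj g (centralizer ({aa p} : Set G)) = MFive.CC (zv p) 1 2 := by
    have := cj_CC hI 3 4
    rw [s3, s4] at this
    exact this
  have eD : MFive.DD (zv p) = cj g (centralizer ({nn p} : Set G) ⊓ centralizer ({aa p} : Set G)) := by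
    rw [cj_inf, e1, e2]
    rfl
  have eN : MFive.N (normalizer (zl (S : Subgroup G) P : Set G)) (zv p) 0 4 =
      cj g (MFive.N (normalizer (zl (S : Subgroup G) P : Set G)) (zv p) 1 2) := by
    rw [hI.N_eq, s1, s2]
  have eB : MFive.NB (zv p) 0 4 1 2 = cj g (MFive.NB (zv p) 1 2 3 4) := by
    rw [cj_NB hI, s1, s2, s3, s4]
  have hAA : ∀ A ∈ AA (o2 (MFive.DD (zv p))),
      cj g⁻¹ A ∈ AA (o2 (centralizer ({nn p} : Set G) ⊓ centralizer ({aa p} : Set G))) := by
    intro A hA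
    have h1 := cj_mem_AA g⁻¹ hA
    rwa [← ChoiceSit.o2_cj, eD, cj_inv_cj] at h1
  have hcen : ∀ A X : Subgroup G, cj g⁻¹ A ≤ centralizer (X : Set G) → A ≤ centralizer ((cj g X : Subgroup G) : Set G) := by
    intro A X h1
    have h2 := cj_mono g h1
    rwa [cj_cj_inv, cj_centralizer] at h2
  refine ⟨g, hg, ?_, eD⟩
  exact
    { fr := (MFive.Inst.pre h hML hz hX).fr5 hX
      sylB := by
        rw [← e1]
        refine ⟨cj_mono g T_le_C, isPGroup_cj g T_two, fun Q hQ hQ2 hTQ => ?_⟩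
        have h1 := (syl h).2.2 (cj g⁻¹ Q) (by
          have := cj_mono g⁻¹ hQ
          rwa [cj_inv_cj] at this) (isPGroup_cj _ hQ2) (by
          have := cj_mono g⁻¹ hTQ
          rwa [cj_inv_cj] at this)
        rw [← h1, cj_cj_inv]
      BC := by
        rw [← e2]
        exact cj_mono g (T_le_Ca h.toFive)
      p2 := by
        rw [eB]
        refine isPGroup_cj g ?_
        refine (ChoiceSit.isPGroup_o2 (centralizer ({nn p} : Set G))).to_le (le_trans ?_ h.DD_le_o2)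
        exact TwoB.V_le_of (zpowers_le.2 (a_mem_DD h)) norm_DD
      jV := by
        intro A hA
        have h1 := (ChoiceBase.le_jj (hAA A hA)).trans J
        have h2 := hcen A _ h1
        rw [cj_eq_of_mem_normalizer hg, h.gen, centralizer_closure] at h2
        rwa [MFive.Inst.range_zv]
      fail := by
        intro A hA hc
        rw [eB]
        refine hcen A _ (fail12 h nT uni J K hML hE (hAA A hA) ?_)
        have h1 := cj_mono g⁻¹ hc
        rwa [eN, ← cj_centralizer, cj_inv_cj] at h1 }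

end light

end Cfsg.Agent.Omega.NO3S.LightB
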